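import Groth.Agent.PicPnLib.Seesaw
import Groth.Agent.SBTautLib.Descent

/-!
# The locus where an invertible module comes from the base is closed for integral geometric fibres
-/

set_option autoImplicit false
set_option maxHeartbeats 1000000
set_option linter.style.haveILetI false
set_option backward.isDefEq.respectTransparency false

universe u

open CategoryTheory CategoryTheory.Limits AlgebraicGeometry
open KFlatLib (pb)

noncomputable section

namespace TrivClosedLib

theorem main {X S Z : Scheme.{u}} (f : X ⟶ S) [Flat f] [IsProper f] [LocallyOfFinitePresentation f]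
    (E : X.Modules) (hE : PicF.IsInvertible E)
    (j : Z ⟶ S) [IsImmersion j]
    (hZ : ∀ (T : Scheme.{u}) (g : T ⟶ S), (∃ g' : T ⟶ Z, g' ≫ j = g) ↔
        ∃ N : T.Modules, FlatMod.IsFinLocFree N ∧
          Nonempty ((Scheme.Modules.pullback (pullback.snd f g)).obj N ≅ (Scheme.Modules.pullback (pullback.fst f g)).obj E))
    (hgeo : ∀ (K : Type u) [Field K] (x : Spec (CommRingCat.of K) ⟶ S), IsIntegral (pullback f x)) :
    IsClosedImmersion j := by
  haveI : GeometricallyIntegral f := ⟨fun {K} _ y {W} fst snd sq => by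
    haveI := hgeo K y
    haveI : Nonempty W := sq.isoPullback.inv.homeomorph.nonempty_congr.mp inferInstance
    exact isIntegral_of_isOpenImmersion sq.isoPullback.hom⟩
  haveI : Nonempty (Fin 1) := ⟨0⟩
  have hrange : Set.range j = {y : S | Nonempty (CohIII.fiberMod f E y ≅ Coh.structureModule (f.fiber y))} := by
    ext y
    let x := S.fromSpecResidueField y
    constructor
    · rintro ⟨z, rfl⟩
      haveI : IsIso (j.residueFieldMap z) := by
        refine (ConcreteCategory.isIso_iff_bijective _).mpr ⟨(j.residueFieldMap z).hom.injective, fun a => ?_⟩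
        obtain ⟨a, rfl⟩ := Z.residue_surjective z a
        obtain ⟨b, rfl⟩ := j.stalkMap_surjective z a
        exact ⟨S.residue (j z) b, by rw [← ConcreteCategory.comp_apply, Scheme.residue_residueFieldMap]; rfl⟩
      obtain ⟨N, hN, ⟨e⟩⟩ := (hZ _ (S.fromSpecResidueField (j z))).mp
        ⟨inv (Spec.map (j.residueFieldMap z)) ≫ Z.fromSpecResidueField z, by
          rw [Category.assoc, ← Scheme.Hom.SpecMap_residueFieldMap_fromSpecResidueField, IsIso.inv_hom_id_assoc]⟩
      haveI : Nonempty ↥(pullback f (S.fromSpecResidueField (j z))) :=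
        (inferInstance : IsIntegral (f.fiber (j z))).nonempty
      haveI : Surjective (pullback.snd f (S.fromSpecResidueField (j z))) :=
        ⟨fun q => ⟨Classical.arbitrary _, Subsingleton.elim (α := PrimeSpectrum _) _ _⟩⟩
      have hNi : PicF.IsInvertible N := SBTaut.isInvertible_of_pb (pullback.snd f (S.fromSpecResidueField (j z))) hN
        (HilbPolyLib.isInvertible_of_iso e.symm (AmpleDevLib.isInvertible_pb _ hE))
      obtain ⟨eN⟩ := PicPnLib.trivial_on_field hNi
      exact ⟨e.symm ≪≫ (Scheme.Modules.pullback _).mapIso eN ≪≫ KFlatLib.pullUnitIso _⟩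
    · rintro ⟨e⟩
      obtain ⟨g', hg'⟩ := (hZ _ x).mpr ⟨Coh.structureModule _,
        AmpleDevLib.isFinLocFree_of_isInvertible (fun z => ⟨⊤, trivial,
          ⟨(Scheme.Modules.restrictFunctorIsoPullback _).app _ ≪≫ KFlatLib.pullUnitIso _⟩⟩),
        ⟨KFlatLib.pullUnitIso _ ≪≫ e.symm⟩⟩
      refine ⟨g' (IsLocalRing.closedPoint _), ?_⟩
      rw [← Scheme.Hom.comp_apply, hg']
      exact Scheme.fromSpecResidueField_apply _ _
  exact IsClosedImmersion.of_isPreimmersion j (hrange ▸ PicPnLib.isClosed_trivial f hE)

end TrivClosedLib
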